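import Cfsg.Agent.Lib.HNT.KD
/-! The action of an outer automorphism of HN on the extraspecial group -/
set_option autoImplicit false
set_option maxRecDepth 100000
namespace H15.HK
open H54 MulAction Subgroup
variable {Γ : Type*} [Group Γ]
theorem el_hom {q : ℕ → Γ} {n : ℕ} (hc : ∀ a, a < n → ∀ b, b < n → q a * q b = q b * q a)
    (h2 : ∀ a, a < n → q a * q a = 1) {f : Γ →* Γ} {m : ℕ → ℕ} (hg : ∀ a, a < n → f (q a) = el q n (m a)) (i : ℕ) :
    ∀ k, k ≤ n → f (el q k i) = el q n (lin m k i)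
  | 0, _ => by rw [el, lin, el_zero, map_one]
  | k + 1, h => by
    rw [el, lin, el_xor hc h2 _ _ n le_rfl, ← el_hom hc h2 hg i k (by omega), map_mul]
    split_ifs
    · rw [hg k h]
    · rw [el_zero, map_one]
theorem lin_lt {m : ℕ → ℕ} {n : ℕ} (i : ℕ) : ∀ k, (∀ a, a < k → m a < 2 ^ n) → lin m k i < 2 ^ n
  | 0, _ => Nat.two_pow_pos n
  | k + 1, h => Nat.xor_lt_two_pow (lin_lt i k fun a ha => h a (by omega)) (by
      split_ifs
      exacts [h k (by omega), Nat.two_pow_pos n])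
/-- the images of the generators -/
def mk7 (j a : ℕ) : ℕ := if a = 0 then 1 else if a = 7 then j else 2 ^ a ^^^ 1
def kap : ℕ := 0xa9a8aaabacadafaea0a1a3a2a5a4a6a7b8b9bbbabdbcbebfb1b0b2b3b4b5b7b688898b8a8d8c8e8f818082838485878699989a9b9c9d9f9e9091939295949697e8e9ebeaedeceeefe1e0e2e3e4e5e7e6f9f8fafbfcfdfffef0f1f3f2f5f4f6f7c9c8cacbcccdcfcec0c1c3c2c5c4c6c7d8d9dbdadddcdedfd1d0d2d3d4d5d7d67f7e7c7d7a7b797876777574737270716e6f6d6c6b6a686967666465626361605e5f5d5c5b5a585957565455525351504f4e4c4d4a4b494846474544434240413e3f3d3c3b3a383937363435323331302f2e2c2d2a2b292826272524232220211f1e1c1d1a1b191816171514131210110e0f0d0c0b0a08090706040502030100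
theorem k_j : allLt (fun j => bimp (tb Dm j) (bor (Nat.beq j 214)
    (anyL (fun i => band (tb Dm i) (bnot (tb Dm (lin (mk7 j) 8 i)))) (List.range 256)))) 256 = true := by decide +kernel
theorem k_kap : allLt (fun i => Nat.beq (cv.get kap i) (lin (mk7 214) 8 i)) 256 = true := by decide +kernel
noncomputable def PK (p : ℕ) : Bool := force p fun p =>
  bor (anyL (fun i => bnot (Nat.beq (cv.get p (cv.get kap (cv.get p (cv.get kap i)))) i)) [1, 2, 4, 8, 16, 32, 64, 128])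
    (anyL (fun i => tb Dm (Nat.xor i (cv.get p (cv.get kap i)))) (List.range 256))
theorem k_PK : allElts cv PK ch cv.one = true := by decide +kernel
theorem pt_pow (g : ℕ → Γ) {a : ℕ} (h : a < 8) : pt g (2 ^ a) = g (3 + a) := by
  rw [pt_eq]; interval_cases a <;> exact mul_one _
theorem Dat.pt_D {g : ℕ → Γ} {a : ℕ} (h : a < 8) : g (3 + a) ∈ DD g :=
  ⟨2 ^ a, by interval_cases a <;> decide +kernel, pt_pow g h⟩
theorem Dat.V_gen [Finite Γ] {g : ℕ → Γ} (D : Dat g) : D.V ≤ closure (DD g) := by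
  rintro _ ⟨i, -, rfl⟩
  exact el_mem 8 (fun a ha => subset_closure (Dat.pt_D ha)) i
theorem Dat.out [Finite Γ] {g : ℕ → Γ} (D : Dat g) {f : Γ →* Γ} (h0 : f (g 3) = g 3)
    (h1 : ∀ a, 0 < a → a < 7 → f (g (3 + a)) = g (3 + a) * g 3) (hD : ∀ d ∈ DD g, f d ∈ DD g) (n : Γ)
    (h2 : ∀ v ∈ D.V, n * f (n * f v * n⁻¹) * n⁻¹ = v) : ∃ u ∈ D.V, u * (n * f u * n⁻¹) ∈ DD g := by
  have lt : ∀ i, tb Dm i = true → i < 256 := fun i hi => (D.good.1.2.1 i hi).1
  obtain ⟨j, hj, e⟩ := hD _ (Dat.pt_D (a := 7) (by decide))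
  have ml : ∀ i, lin (mk7 j) 8 i < 256 := fun i => lin_lt (n := 8) i 8 fun a ha => by
    have := lt j hj
    interval_cases a <;> simp [mk7, this]
  have hf : ∀ i, f (pt g i) = pt g (lin (mk7 j) 8 i) := fun i => el_hom D.com D.sq (fun a ha => by
    rw [mk7]
    split_ifs with a0 a7
    · rw [a0]; exact h0.trans (pt_one g).symm
    · rw [a7]; exact e.symm
    · refine (h1 a (by omega) (by omega)).trans (.trans ?_ (D.xor _ _).symm)
      rw [pt_one, pt_pow g ha]) i 8 le_rfl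
  obtain rfl : j = 214 := by
    have := (allLt_iff _ _).1 k_j j (lt j hj)
    simp only [bimp_eq_true, bor_eq_true, anyL_iff, band_eq_true, bnot_eq_true, Nat.beq_eq] at this
    refine (this hj).resolve_right fun ⟨i, _, a, b⟩ => b ?_
    obtain ⟨k, hk, e⟩ := hD _ ⟨i, a, rfl⟩
    rw [← D.ctx.inj _ _ (lt k hk) (ml i) (e.trans (hf i))]
    exact hk
  obtain ⟨p, r, e⟩ := D.good.1.forall_of_allElts D.ctx k_PK n trivial
  have a : ∀ i, i < 256 → cv.get p (cv.get kap i) < 256 ∧ n * f (pt g i) * n⁻¹ = pt g (cv.get p (cv.get kap i)) :=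
    fun i hi => by
      rw [Nat.eq_of_beq_eq_true ((allLt_iff _ _).1 k_kap i hi), hf]
      exact ⟨r.lt (ml i), r.smul_eq (ml i)⟩
  simp only [PK, force_eq, bor_eq_true, anyL_iff, bnot_eq_true, Nat.beq_eq, List.mem_range] at e
  rcases e with ⟨i, hi, e⟩ | ⟨i, hi, e⟩
  · have hi' : i < 256 := (by decide : ∀ i ∈ [1, 2, 4, 8, 16, 32, 64, 128], i < 256) i hi
    refine absurd (D.ctx.inj _ _ (a _ (a i hi').1).1 hi' ?_) e
    exact (a _ (a i hi').1).2.symm.trans ((a i hi').2 ▸ h2 _ ⟨i, hi', rfl⟩)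
  · exact ⟨_, ⟨i, hi, rfl⟩, _, e, (a i hi).2 ▸ D.xor _ _⟩
end H15.HK
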